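import Groth.Agent.L22.Big.Support
import Groth.Agent.L22.Reg.Cx
import Groth.Agent.L22.Big.Basic
import Groth.Agent.L22.GG.FlatDescent
import Groth.Agent.L05.EulerDiv.PowerFibre

/-!
Higher cohomology of powers of a globally generated invertible module grows slower than the sections.
-/

set_option autoImplicit false
set_option backward.isDefEq.respectTransparency false
set_option linter.style.haveILetI false
set_option linter.unusedSectionVars false
universe u

open CategoryTheory CategoryTheory.Limits AlgebraicGeometry TopologicalSpace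

noncomputable section

namespace Groth.L13.NefGrowth

open Groth.L16 Groth.L03.Euler
open Groth.L00.Tensor (tensorIso tensorAssoc tensorComm tensorUnitRight tensorUnitLeft tensorMap)

variable (k : Type u) [Field k]

/-- The dimension of `H^i`. -/
def hi {X : Scheme.{u}} [X.Over (Spec (CommRingCat.of k))] (M : X.Modules) (i : ℕ) : ℕ :=
  Module.finrank k (Coh.HH X M i)

/-- The bound `(n + 1)^(d - 1)`, zero for `d = 0`. -/
def bnd : ℕ → ℕ → ℕ
  | 0, _ => 0
  | d + 1, n => (n + 1) ^ d

theorem sum_bnd_le (e n : ℕ) : ∑ m ∈ Finset.range n, bnd e m ≤ bnd (e + 1) n := by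
  cases e with
  | zero => simp [bnd]
  | succ e =>
    refine (Finset.sum_le_card_nsmul _ _ ((n + 1) ^ e) fun m hm => ?_).trans ?_
    · exact Nat.pow_le_pow_left (by have := Finset.mem_range.1 hm; omega) e
    · rw [Finset.card_range, smul_eq_mul]
      show n * (n + 1) ^ e ≤ (n + 1) ^ (e + 1)
      rw [pow_succ']
      exact Nat.mul_le_mul_right _ (Nat.le_succ n)

variable {k}

theorem hi_iso {X : Scheme.{u}} [X.Over (Spec (CommRingCat.of k))] {M N : X.Modules} (e : M ≅ N) (i : ℕ) :
    hi k M i = hi k N i := finrank_HH_of_iso e i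

theorem hi_le_add {X : Scheme.{u}} [X.Over (Spec (CommRingCat.of k))] [IsProper (X ↘ Spec (CommRingCat.of k))]
    {S : ShortComplex X.Modules} (hS : S.ShortExact) (h₁ : Coh.IsCoh S.X₁) (h₂ : Coh.IsCoh S.X₂)
    (h₃ : Coh.IsCoh S.X₃) (i : ℕ) : hi k S.X₂ i ≤ hi k S.X₁ i + hi k S.X₃ i := by
  haveI := ProperFinite.finite_HH k h₁ i
  haveI := ProperFinite.finite_HH k h₂ i
  haveI := ProperFinite.finite_HH k h₃ i
  rw [hi, hi, hi, finrank_eq_add (CohLinear.overLin k (CohLinear.hmap S.f i))
    (CohLinear.overLin k (CohLinear.hmap S.g i)) (CohLinear.exact_hmap_hmap hS i)]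
  exact Nat.add_le_add (LinearMap.finrank_range_le _) (Submodule.finrank_le _)

/-- The bound on a scheme. -/
def Bounded (X : Scheme.{u}) [X.Over (Spec (CommRingCat.of k))] (d : ℕ) (L F : X.Modules) : Prop :=
  ∀ i : ℕ, 1 ≤ i → ∃ C : ℕ, ∀ n : ℕ, hi k (CohB1.tensorMod F (CohB1.tensorPow L n)) i ≤ C * bnd d n

/-- From schemes of dimension at most `d` to modules supported in dimension at most `d`. -/
theorem bounded_of_support {d : ℕ}
    (H : ∀ (Z : Scheme.{u}) [Z.Over (Spec (CommRingCat.of k))] [IsProper (Z ↘ Spec (CommRingCat.of k))],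
      topologicalKrullDim Z ≤ d → ∀ (L : Z.Modules), PicF.IsInvertible L → Curv2.IsGloballyGenerated L →
        ∀ F : Z.Modules, Coh.IsCoh F → Bounded (k := k) Z d L F)
    {X : Scheme.{u}} [X.Over (Spec (CommRingCat.of k))] [IsProper (X ↘ Spec (CommRingCat.of k))]
    {L : X.Modules} (hL : PicF.IsInvertible L) (hg : Curv2.IsGloballyGenerated L) {F : X.Modules}
    (hF : Coh.IsCoh F) (hd : topologicalKrullDim (CohB1.support F) ≤ d) : Bounded (k := k) X d L F := by
  haveI := Groth.L21.RR.isNoetherian_of_proper (X := X) k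
  haveI : X.IsSeparated := ⟨by rw [← terminal.comp_from (X ↘ Spec (CommRingCat.of k))]; infer_instance⟩
  obtain ⟨Z, j, M, hj, hM, ⟨e⟩, hdim⟩ := Groth.L22.Big.exists_push_support k hF
  haveI := hj
  letI : Z.Over (Spec (CommRingCat.of k)) := ⟨j ≫ X ↘ Spec (CommRingCat.of k)⟩
  haveI : IsProper (Z ↘ Spec (CommRingCat.of k)) :=
    inferInstanceAs (IsProper (j ≫ X ↘ Spec (CommRingCat.of k)))
  intro i hi'
  obtain ⟨C, hC⟩ := H Z (hdim.trans_le hd) _ (Groth.L18.Ample.isInvertible_pullback j hL)
    (Groth.L22.GG.FlatDescent.gg_pullback j hg) M hM i hi'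
  refine ⟨C, fun n => ?_⟩
  obtain ⟨π⟩ := Groth.L05.EulerDiv.nonempty_pullback_tensorPow j L n
  rw [← hi_iso (tensorIso e (Iso.refl _)) i, hi,
    Groth.L22.Big.finrank_push k j rfl (Groth.L18.Ample.isInvertible_tensorPow hL n) M hM.1]
  exact (hi_iso (tensorIso (Iso.refl M) π) i).trans_le (hC n)

/-- The bound on every scheme of dimension at most `d`. -/
theorem bounded_dim : ∀ (d : ℕ) (Z : Scheme.{u}) [Z.Over (Spec (CommRingCat.of k))]
    [IsProper (Z ↘ Spec (CommRingCat.of k))], topologicalKrullDim Z ≤ d →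
    ∀ (L : Z.Modules), PicF.IsInvertible L → Curv2.IsGloballyGenerated L →
      ∀ F : Z.Modules, Coh.IsCoh F → Bounded (k := k) Z d L F := by
  intro d
  induction d with
  | zero =>
    intro Z _ _ hd L _ _ F _ i hi'
    haveI := Groth.L21.RR.isNoetherian_of_proper (X := Z) k
    refine ⟨0, fun n => ?_⟩
    haveI := Groth.L22.Inter.subsingleton_HH_of_dim hd (CohB1.tensorMod F (CohB1.tensorPow L n))
      (show 0 < i by omega)
    exact le_of_eq_of_le (Module.finrank_zero_of_subsingleton (R := k)) (Nat.zero_le _)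
  | succ e ih =>
    intro Z _ _ hd L hL hg F hF
    haveI := Groth.L21.RR.isNoetherian_of_proper (X := Z) k
    haveI : Z.IsSeparated := ⟨by rw [← terminal.comp_from (Z ↘ Spec (CommRingCat.of k))]; infer_instance⟩
    refine Devissage.devissage_ideals (P := fun F => Bounded (k := k) Z (e + 1) L F)
      (fun M N φ h i hi' => ?_) (fun M h i hi' => ⟨0, fun n => ?_⟩) (fun S hS h₁ h₂ h₃ a₁ a₃ i hi' => ?_)
      (fun W j hj hW I ι hι hI => ?_) hF
    · obtain ⟨C, hC⟩ := h i hi'
      exact ⟨C, fun n => (hi_iso (tensorIso φ.some.symm (Iso.refl _)) i).trans_le (hC n)⟩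
    · haveI : Subsingleton (Coh.HH Z (CohB1.tensorMod M (CohB1.tensorPow L n)) i) :=
        subsingleton_HH_of_isZero ((Groth.L00.Tensor.tensorRightF (CohB1.tensorPow L n)).map_isZero h) i
      exact le_of_eq_of_le (Module.finrank_zero_of_subsingleton (R := k)) (Nat.zero_le _)
    · obtain ⟨C₁, hC₁⟩ := a₁ i hi'
      obtain ⟨C₃, hC₃⟩ := a₃ i hi'
      refine ⟨C₁ + C₃, fun n => ?_⟩
      have hP := Groth.L18.Ample.isInvertible_tensorPow hL n
      rw [Nat.add_mul]
      exact (hi_le_add (shortExact_tensor hP hS) (isCoh_tensor hP h₁) (isCoh_tensor hP h₂) (isCoh_tensor hP h₃) i).trans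
        (Nat.add_le_add (hC₁ n) (hC₃ n))
    haveI := hj; haveI := hW; haveI := hι; haveI := hI
    letI : W.Over (Spec (CommRingCat.of k)) := ⟨j ≫ Z ↘ Spec (CommRingCat.of k)⟩
    haveI : IsProper (W ↘ Spec (CommRingCat.of k)) :=
      inferInstanceAs (IsProper (j ≫ Z ↘ Spec (CommRingCat.of k)))
    haveI := Groth.L21.RR.isNoetherian_of_proper (X := W) k
    let N := (Scheme.Modules.pullback j).obj L
    have hN : PicF.IsInvertible N := Groth.L18.Ample.isInvertible_pullback j hL
    have hNg : Curv2.IsGloballyGenerated N := Groth.L22.GG.FlatDescent.gg_pullback j hg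
    suffices Bounded (k := k) W (e + 1) N I by
      intro i hi'
      obtain ⟨C, hC⟩ := this i hi'
      refine ⟨C, fun n => ?_⟩
      obtain ⟨π⟩ := Groth.L05.EulerDiv.nonempty_pullback_tensorPow j L n
      rw [hi, Groth.L22.Big.finrank_push k j rfl (Groth.L18.Ample.isInvertible_tensorPow hL n) I hI]
      exact (hi_iso (tensorIso (Iso.refl I) π) i).trans_le (hC n)
    have hIc : Coh.IsCoh I := Groth.L16.Rees.RelVanish.isCoh_of_mono ι CohClosedPush.isCoh_structure
    obtain ⟨s, hs⟩ := Groth.L18.Ample.exists_genLocus_mem_of_gg hN hNg (genericPoint W)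
    haveI : Mono (mulSection (Coh.structureModule W) s) :=
      Groth.L22.Big.mono_mulSection k (Groth.L18.Ample.isInvertible_structureModule W) s hs
    haveI : Mono ((Groth.L00.Tensor.tensorRightF N).map ι) :=
      (shortExact_tensor hN (S := ShortComplex.mk ι (cokernel.π ι) (cokernel.condition ι))
        { exact := ShortComplex.exact_cokernel ι }).mono_f
    haveI : Mono (mulSection I s) := by
      haveI : Mono (ι ≫ mulSection (Coh.structureModule W) s) := mono_comp ι _
      exact mono_of_mono_fac (mulSection_natural ι s)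
    let Q := cokernel (mulSection I s)
    let S := ShortComplex.mk (mulSection I s) (cokernel.π (mulSection I s)) (cokernel.condition _)
    have hS : S.ShortExact := { exact := ShortComplex.exact_cokernel _ }
    have hQc : Coh.IsCoh Q := (CohKernel.isCoh_kernel_cokernel hIc (isCoh_tensor hN hIc) (mulSection I s)).2
    haveI : Coh.IsQCoh (CohB1.tensorMod I N) := (isCoh_tensor hN hIc).1
    have hQgen : genericPoint W ∉ CohB1.support Q := by
      refine fun hmem => hmem ?_
      haveI : Epi ((Groth.L00.Stk.F W (genericPoint W)).map (mulSection I s)) :=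
        (ModuleCat.epi_iff_surjective _).2 (bijective_mulSection I s hs).2
      haveI := hQc.1
      have hz : IsZero ((Groth.L00.Stk.F W (genericPoint W)).obj Q) := by
        haveI : Epi ((Groth.L00.Stk.F W (genericPoint W)).map (cokernel.π (mulSection I s))) :=
          inferInstance
        refine IsZero.of_epi_eq_zero ((Groth.L00.Stk.F W (genericPoint W)).map (cokernel.π (mulSection I s))) ?_
        rw [← cancel_epi ((Groth.L00.Stk.F W (genericPoint W)).map (mulSection I s)), ← Functor.map_comp,
          cokernel.condition, Functor.map_zero, comp_zero]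
      exact ModuleCat.subsingleton_of_isZero hz
    have hdW : topologicalKrullDim W ≤ (e + 1 : ℕ) := (j.isClosedEmbedding.topologicalKrullDim_le).trans hd
    have hQd : topologicalKrullDim (CohB1.support Q) ≤ (e : ℕ) :=
      Groth.L22.Big.dim_le_of_generic_notMem (CohSupport.isClosed_support _ hQc.2) hQgen hdW
    intro i hi'
    obtain ⟨C, hC⟩ := bounded_of_support ih hN hNg hQc hQd i hi'
    refine ⟨hi k (CohB1.tensorMod I (CohB1.tensorPow N 0)) i + C, fun n => ?_⟩
    have hrec : ∀ n, hi k (CohB1.tensorMod I (CohB1.tensorPow N n)) i ≤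
        hi k (CohB1.tensorMod I (CohB1.tensorPow N 0)) i + C * ∑ m ∈ Finset.range n, bnd e m := by
      intro n
      induction n with
      | zero => simp
      | succ n ihn =>
        have hP := Groth.L18.Ample.isInvertible_tensorPow hN n
        have h := hi_le_add (k := k) (shortExact_tensor hP hS) (isCoh_tensor hP hIc)
          (isCoh_tensor hP (isCoh_tensor hN hIc)) (isCoh_tensor hP hQc) i
        refine (le_of_eq (hi_iso ?_ i)).trans (h.trans ?_)
        · exact tensorIso (Iso.refl I) (tensorComm (CohB1.tensorPow N n) N) ≪≫ (tensorAssoc I N _).symm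
        rw [Finset.sum_range_succ, Nat.mul_add, ← Nat.add_assoc]
        exact Nat.add_le_add ihn (hC n)
    refine (hrec n).trans ?_
    rw [Nat.add_mul]
    exact Nat.add_le_add (Nat.le_mul_of_pos_right _ (pow_pos (Nat.succ_pos n) e))
      (Nat.mul_le_mul_left _ (sum_bnd_le e n))
where
  mulSection_natural {W : Scheme.{u}} {I J N : W.Modules} (ι : I ⟶ J) (s : Coh.structureModule W ⟶ N) :
      mulSection I s ≫ (Groth.L00.Tensor.tensorRightF N).map ι = ι ≫ mulSection J s := by
    show ((tensorUnitRight I).inv ≫ tensorMap (𝟙 I) s) ≫ tensorMap ι (𝟙 N) =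
      ι ≫ (tensorUnitRight J).inv ≫ tensorMap (𝟙 J) s
    rw [Category.assoc, ← Groth.L00.Tensor.tensorMap_comp, Category.id_comp, Category.comp_id,
      ← cancel_epi (tensorUnitRight I).hom, Iso.hom_inv_id_assoc,
      ← reassoc_of% (Groth.L22.Reg.tensorUnitRight_natural ι), Iso.hom_inv_id_assoc,
      ← Groth.L00.Tensor.tensorMap_comp, Category.comp_id, Category.id_comp]

end Groth.L13.NefGrowth
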